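import Mathlib

/-! Independence of finitely many incomparable valuation subrings. -/

namespace Groth.Agent.SemiLocGlue

universe u

variable {K : Type u} [Field K]

lemma one_add_mem_unit {V : ValuationSubring K} {z : K} (hz : V.valuation z < 1) :
    V.valuation (1 + z) = 1 := by
  rw [Valuation.map_add_eq_of_lt_left _ (by rwa [map_one]), map_one]

theorem exists_small_big (V₀ : ValuationSubring K) :
    ∀ t : Finset (ValuationSubring K), (∀ W ∈ t, ¬ V₀ ≤ W ∧ ¬ W ≤ V₀) →
      ∃ z : K, V₀.valuation z < 1 ∧ ∀ W ∈ t, 1 < W.valuation z := by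
  classical
  intro t
  induction t using Finset.induction_on with
  | empty => intro _; exact ⟨0, by simp, by simp⟩
  | insert W t hWt ih =>
    intro h
    obtain ⟨a, ha₀, ha⟩ := ih fun U hU => h U (Finset.mem_insert_of_mem hU)
    obtain ⟨h1, h2⟩ := h W (Finset.mem_insert_self _ _)
    obtain ⟨p, hp₀, hpW⟩ := SetLike.not_le_iff_exists.mp h1
    obtain ⟨q, hqW, hq₀⟩ := SetLike.not_le_iff_exists.mp h2
    rw [← ValuationSubring.valuation_le_one_iff] at hp₀ hqW hpW hq₀
    rw [not_le] at hpW hq₀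
    have hb₀ : V₀.valuation (p / q) < 1 := by
      rw [map_div₀, div_lt_one₀ (zero_lt_one.trans hq₀)]
      exact hp₀.trans_lt hq₀
    have hbW : 1 < W.valuation (p / q) := by
      have hq : q ≠ 0 := fun h0 => by simp [h0] at hq₀
      rw [map_div₀, one_lt_div₀ ((Valuation.pos_iff _).mpr hq)]
      exact hqW.trans_lt hpW
    by_cases haW : 1 < W.valuation a
    · exact ⟨a, ha₀, fun U hU => (Finset.mem_insert.mp hU).elim (fun h => h ▸ haW) (ha U)⟩
    obtain ⟨N, hN0, hN⟩ : ∃ N : ℕ, N ≠ 0 ∧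
        ∀ U ∈ t, 1 < U.valuation (p / q) → U.valuation (p / q) ^ N ≠ U.valuation a := by
      have hfin : {N : ℕ | ∃ U ∈ t, 1 < U.valuation (p / q) ∧
          U.valuation (p / q) ^ N = U.valuation a}.Finite := by
        refine (Set.Finite.biUnion t.finite_toSet (t := fun U => {N : ℕ | 1 < U.valuation (p / q) ∧
          U.valuation (p / q) ^ N = U.valuation a}) fun U _ => ?_).subset ?_
        · exact Set.Subsingleton.finite fun m hm n hn =>
            (pow_right_strictMono₀ hm.1).injective (hm.2.trans hn.2.symm)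
        · rintro N ⟨U, hU, hN⟩
          exact Set.mem_biUnion hU hN
      obtain ⟨N, hN⟩ := ((Set.Ioi_infinite 0).sdiff hfin).nonempty
      exact ⟨N, (Set.mem_Ioi.mp hN.1).ne', fun U hU h1 h2 => hN.2 ⟨U, hU, h1, h2⟩⟩
    refine ⟨a + (p / q) ^ N, ?_, fun U hU => ?_⟩
    · refine Valuation.map_add_lt _ ha₀ ?_
      rw [map_pow]
      exact pow_lt_one₀ zero_le hb₀ hN0
    rcases Finset.mem_insert.mp hU with rfl | hU
    · rw [Valuation.map_add_eq_of_lt_right, map_pow]
      · exact one_lt_pow₀ hbW hN0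
      · rw [map_pow]; exact (not_lt.mp haW).trans_lt (one_lt_pow₀ hbW hN0)
    · have hne : U.valuation a ≠ U.valuation ((p / q) ^ N) := by
        rw [map_pow]
        intro h
        rcases le_or_gt (U.valuation (p / q)) 1 with hle | hgt
        · exact (ha U hU).not_ge (h ▸ pow_le_one₀ zero_le hle)
        · exact hN U hU hgt h.symm
      rw [Valuation.map_add_of_distinct_val _ hne]
      exact lt_of_lt_of_le (ha U hU) (le_max_left _ _)

theorem exists_separator (V₀ : ValuationSubring K) (t : Finset (ValuationSubring K))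
    (h : ∀ W ∈ t, ¬ V₀ ≤ W ∧ ¬ W ≤ V₀) :
    ∃ u : K, V₀.valuation u < 1 ∧ ∀ W ∈ t, W.valuation (u - 1) < 1 := by
  obtain ⟨z, hz₀, hz⟩ := exists_small_big V₀ t h
  refine ⟨z / (1 + z), ?_, fun W hW => ?_⟩
  · rw [map_div₀, one_add_mem_unit hz₀, div_one]; exact hz₀
  · have h1 : W.valuation (1 + z) = W.valuation z :=
      Valuation.map_add_eq_of_lt_right _ (by rw [map_one]; exact hz W hW)
    have hne : 1 + z ≠ 0 := by
      intro h0
      rw [h0, map_zero] at h1
      exact (lt_trans zero_lt_one (hz W hW)).ne h1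
    rw [show z / (1 + z) - 1 = -(1 / (1 + z)) by field_simp; ring, Valuation.map_neg, map_div₀, map_one,
      h1, div_lt_one₀ (zero_lt_one.trans (hz W hW))]
    exact hz W hW

lemma sub_one_mul {V : ValuationSubring K} {a b : K} (ha : V.valuation (a - 1) < 1)
    (hb : V.valuation (b - 1) < 1) : V.valuation (a * b - 1) < 1 := by
  have hb1 : V.valuation b = 1 := by
    rw [show b = 1 + (b - 1) by ring, one_add_mem_unit hb]
  rw [show a * b - 1 = (a - 1) * b + (b - 1) by ring]
  refine Valuation.map_add_lt _ ?_ hb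
  rwa [map_mul, hb1, mul_one]

lemma sub_one_pow {V : ValuationSubring K} {a : K} (ha : V.valuation (a - 1) < 1) :
    ∀ n : ℕ, V.valuation (a ^ n - 1) < 1
  | 0 => by simp
  | n + 1 => by rw [pow_succ]; exact sub_one_mul (sub_one_pow ha n) ha

open Classical in
/-- An element `≡ 1` on `P` and `≡ 0` on `Q`. -/
theorem exists_one_zero (P Q : Finset (ValuationSubring K)) (hPQ : Disjoint P Q)
    (h : ∀ V ∈ P ∪ Q, ∀ W ∈ P ∪ Q, V ≠ W → ¬ V ≤ W) :
    ∃ x : K, (∀ V ∈ P, V.valuation (x - 1) < 1) ∧ ∀ W ∈ Q, W.valuation x < 1 := by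
  classical
  have hu : ∀ W ∈ Q, ∃ u : K, W.valuation u < 1 ∧ ∀ V ∈ (P ∪ Q).erase W, V.valuation (u - 1) < 1 :=
    fun W hW => exists_separator W _ fun V hV => by
      obtain ⟨hne, hmem⟩ := Finset.mem_erase.mp hV
      exact ⟨h W (Finset.mem_union_right _ hW) V hmem hne.symm,
        h V hmem W (Finset.mem_union_right _ hW) hne⟩
  choose u hu₀ hu₁ using hu
  let g : ValuationSubring K → K := fun W => if hW : W ∈ Q then u W hW else 1
  refine ⟨∏ W ∈ Q, g W, fun V hV => ?_, fun W hW => ?_⟩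
  · refine Finset.prod_induction g (fun x => V.valuation (x - 1) < 1) (fun a b => sub_one_mul) (by simp) ?_
    intro W hW
    simp only [g, dif_pos hW]
    exact hu₁ W hW V (Finset.mem_erase.mpr
      ⟨fun h => Finset.disjoint_left.mp hPQ hV (h ▸ hW), Finset.mem_union_left _ hV⟩)
  · rw [← Finset.mul_prod_erase _ g hW, map_mul]
    refine mul_lt_one_of_lt_of_le (by simp only [g, dif_pos hW]; exact hu₀ W hW) ?_
    refine Finset.prod_induction g (fun x => W.valuation x ≤ 1) (fun a b ha hb => ?_) (by simp) ?_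
    · rw [map_mul]; exact mul_le_one₀ ha zero_le hb
    intro U hU
    obtain ⟨hne, hUQ⟩ := Finset.mem_erase.mp hU
    simp only [g, dif_pos hUQ]
    have h1 := hu₁ U hUQ W (Finset.mem_erase.mpr ⟨hne.symm, Finset.mem_union_right _ hW⟩)
    rw [show u U hUQ = 1 + (u U hUQ - 1) by ring, one_add_mem_unit h1]

end Groth.Agent.SemiLocGlue
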