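import Mathlib
import Groth.Agent.SemiLocGlue.Approx
import Groth.Agent.DomDVR.KrullAkizuki

/-! One dimensional semilocal subrings of a field: an element separating them. -/

namespace Groth.Agent.SemiLocGlue

universe u

variable {K : Type u} [Field K]

/-- The proper valuation subrings containing `A`. -/
def Ov (A : Subring K) : Set (ValuationSubring K) := {V | A ≤ V.toSubring ∧ V ≠ ⊤}

/-- `x` lies in `A` and in all of its maximal ideals. -/
def InJac (A : Subring K) (x : K) : Prop :=
  ∃ h : x ∈ A, ∀ P : Ideal A, P.IsMaximal → (⟨x, h⟩ : A) ∈ P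

lemma InJac.mem {A : Subring K} {x : K} (h : InJac A x) : x ∈ A := h.1

lemma InJac.mul {A : Subring K} {x a : K} (hx : InJac A x) (ha : a ∈ A) : InJac A (x * a) :=
  ⟨mul_mem hx.1 ha, fun P hP => P.mul_mem_right ⟨a, ha⟩ (hx.2 P hP)⟩

variable {A : Subring K} [IsFractionRing A K] [IsNoetherianRing A]

/-- The dimension hypothesis in the form used below. -/
lemma isMaximal_of_ne_bot (hdim : ringKrullDim A = 1) {P : Ideal A} [P.IsPrime] (hP : P ≠ ⊥) :
    P.IsMaximal := by
  haveI : (⊥ : Ideal A).IsPrime := Ideal.isPrime_bot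
  exact Ring.krullDimLE_one_iff_of_isPrime_bot.mp (Ring.krullDimLE_iff.mpr hdim.le) P hP inferInstance

lemma not_isField (hdim : ringKrullDim A = 1) : ¬ IsField A := fun h => by
  rw [ringKrullDim_eq_zero_of_isField h] at hdim
  exact zero_ne_one hdim

omit [IsNoetherianRing A] in
lemma exists_div (x : K) : ∃ a d : A, (d : K) ≠ 0 ∧ x * d = a := by
  obtain ⟨a, d, hd, h⟩ := IsFractionRing.div_surjective (A := A) x
  exact ⟨a, d, fun h0 => nonZeroDivisors.ne_zero hd (Subtype.ext h0), by
    rw [← h]
    exact div_mul_cancel₀ _ fun h0 => nonZeroDivisors.ne_zero hd (Subtype.ext h0)⟩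

lemma exists_inJac_ne_zero (hdim : ringKrullDim A = 1) (hsl : Finite (MaximalSpectrum A)) :
    ∃ c : A, c ≠ 0 ∧ InJac A (c : K) := by
  classical
  haveI := Fintype.ofFinite (MaximalSpectrum A)
  have hne : ∀ P : MaximalSpectrum A, ∃ y ∈ P.asIdeal, y ≠ 0 := fun P => by
    refine Submodule.exists_mem_ne_zero_of_ne_bot fun h => not_isField hdim ?_
    exact Ring.isField_iff_maximal_bot.mpr (h ▸ P.isMaximal)
  choose y hy hy0 using hne
  refine ⟨∏ P, y P, Finset.prod_ne_zero_iff.mpr fun P _ => hy0 P, Subtype.mem _, fun P hP => ?_⟩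
  exact Ideal.mem_of_dvd _ (Finset.dvd_prod_of_mem y (Finset.mem_univ ⟨P, hP⟩)) (hy ⟨P, hP⟩)

/-- The centre of a valuation subring above `A` on a subalgebra. -/
def centre (R' : Subalgebra A K) (V : ValuationSubring K) (h : ∀ x ∈ R', x ∈ V) : Ideal R' :=
  Ideal.comap (R'.val.toRingHom.codRestrict V.toSubring fun x => h x.1 x.2) (IsLocalRing.maximalIdeal V)

omit [IsFractionRing A K] [IsNoetherianRing A] in
lemma mem_centre {R' : Subalgebra A K} {V : ValuationSubring K} {h : ∀ x ∈ R', x ∈ V} (x : R') :
    x ∈ centre R' V h ↔ V.valuation (x : K) < 1 := by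
  rw [centre, Ideal.mem_comap]
  exact ValuationSubring.valuation_lt_one_iff V _

omit [IsNoetherianRing A] in
lemma exists_small {V : ValuationSubring K} (hV : V ∈ Ov A) : ∃ d : A, d ≠ 0 ∧ V.valuation (d : K) < 1 := by
  by_contra hcon
  push Not at hcon
  refine hV.2 (eq_top_iff.mpr fun x _ => ?_)
  obtain ⟨a, d, hd, hxd⟩ := exists_div (A := A) x
  have hd1 : V.valuation (d : K) = 1 :=
    le_antisymm ((V.valuation_le_one_iff _).mpr (hV.1 d.2)) (hcon d fun h0 => hd (by simp [h0]))
  rw [← ValuationSubring.valuation_le_one_iff]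
  have := congrArg V.valuation hxd
  rw [map_mul, hd1, mul_one] at this
  rw [this, ValuationSubring.valuation_le_one_iff]
  exact hV.1 a.2

omit [IsNoetherianRing A] in
lemma centre_ne_bot {R' : Subalgebra A K} {V : ValuationSubring K} (hV : V ∈ Ov A)
    (h : ∀ x ∈ R', x ∈ V) : centre R' V h ≠ ⊥ := by
  intro hbot
  obtain ⟨d, hd, hlt⟩ := exists_small hV
  have : (algebraMap A R' d) ∈ centre R' V h := (mem_centre _).mpr hlt
  rw [hbot, Ideal.mem_bot] at this
  exact hd (Subtype.ext (congrArg Subtype.val this :))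

omit [IsFractionRing A K] [IsNoetherianRing A] in
lemma integralClosure_mem {V : ValuationSubring K} (hV : A ≤ V.toSubring) :
    ∀ x ∈ integralClosure A K, x ∈ V := by
  haveI : IsIntegrallyClosedIn V.toSubring K := inferInstanceAs (IsIntegrallyClosedIn V K)
  exact fun x hx => Subring.integralClosure_subring_le_iff.mpr (show Subring.ofClass A ≤ V.toSubring from hV) hx

/-- A valuation subring is determined by its centre on the normalisation. -/
lemma eq_of_centre_eq (hdim : ringKrullDim A = 1) {V W : ValuationSubring K} (hV : V ∈ Ov A)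
    (hW : W ∈ Ov A)
    (h : centre (integralClosure A K) V (integralClosure_mem hV.1) =
      centre (integralClosure A K) W (integralClosure_mem hW.1)) : V = W := by
  haveI : Ring.KrullDimLE 1 A := Ring.krullDimLE_iff.mpr hdim.le
  haveI := DomDVR.isDedekindDomain_integralClosure (R := A) (K := K)
  haveI : IsFractionRing (integralClosure A K) K :=
    integralClosure.isFractionRing_of_finite_extension K K
  suffices ∀ V W : ValuationSubring K, ∀ (hV : V ∈ Ov A) (hW : W ∈ Ov A),
      centre (integralClosure A K) V (integralClosure_mem hV.1) =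
        centre (integralClosure A K) W (integralClosure_mem hW.1) → V ≤ W from
    le_antisymm (this V W hV hW h) (this W V hW hV h.symm)
  intro V W hV hW h x hxV
  let Q := centre (integralClosure A K) V (integralClosure_mem hV.1)
  haveI : Q.IsPrime := inferInstanceAs (Ideal.comap _ _).IsPrime
  let L := Localization.subalgebra.ofField K Q.primeCompl (Ideal.primeCompl_le_nonZeroDivisors Q)
  haveI : IsLocalization.AtPrime L Q := Localization.subalgebra.isLocalization_ofField K Q.primeCompl _
  haveI : IsDiscreteValuationRing L := IsLocalization.AtPrime.isDiscreteValuationRing_of_dedekind_domain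
    (integralClosure A K) (centre_ne_bot hV _) L
  haveI : IsFractionRing L K := Localization.subalgebra.isFractionRing_ofField K Q.primeCompl _
  -- a fraction with denominator outside the centre lies in `W`
  have key : ∀ a s : integralClosure A K, s ∉ Q → (a : K) * (s : K)⁻¹ ∈ W := by
    intro a s hs
    have hs1 : W.valuation (s : K) = 1 := by
      refine le_antisymm ((W.valuation_le_one_iff _).mpr (integralClosure_mem hW.1 _ s.2)) (not_lt.mp fun hlt => hs ?_)
      rw [show Q = centre (integralClosure A K) W (integralClosure_mem hW.1) from h]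
      exact (mem_centre _).mpr hlt
    rw [← ValuationSubring.valuation_le_one_iff, map_mul, map_inv₀, hs1, inv_one, mul_one,
      ValuationSubring.valuation_le_one_iff]
    exact integralClosure_mem hW.1 _ a.2
  rcases ValuationRing.isInteger_or_isInteger L x with ⟨y, hy⟩ | ⟨y, hy⟩
  · obtain ⟨a, s, hs, hyas⟩ := y.2
    rw [show x = (a : K) * (s : K)⁻¹ from hy ▸ hyas]
    exact key a s hs
  · obtain ⟨a, s, hs, hyas⟩ := y.2
    have hxi : x⁻¹ = (a : K) * (s : K)⁻¹ := hy ▸ hyas
    by_cases hx0 : x = 0
    · rw [hx0]; exact ValuationSubring.zero_mem _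
    by_cases ha : a ∈ Q
    · exfalso
      have hs1 : V.valuation (s : K) = 1 := by
        refine le_antisymm ((V.valuation_le_one_iff _).mpr (integralClosure_mem hV.1 _ s.2)) (not_lt.mp fun hlt => ?_)
        exact hs ((mem_centre _).mpr hlt)
      have hlt : V.valuation x⁻¹ < 1 := by
        rw [hxi, map_mul, map_inv₀, hs1, inv_one, mul_one]
        exact (mem_centre _).mp ha
      rw [← ValuationSubring.valuation_le_one_iff] at hxV
      have h1 : V.valuation x * V.valuation x⁻¹ = 1 := by rw [← map_mul, mul_inv_cancel₀ hx0, map_one]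
      exact absurd h1 ((mul_le_of_le_one_left zero_le hxV).trans_lt hlt).ne
    · rw [show x = (s : K) * (a : K)⁻¹ by rw [← inv_inv x, hxi, mul_inv, inv_inv, mul_comm]]
      exact key s a ha

lemma finite_Ov (hdim : ringKrullDim A = 1) (hsl : Finite (MaximalSpectrum A)) : (Ov A).Finite := by
  classical
  haveI : Ring.KrullDimLE 1 A := Ring.krullDimLE_iff.mpr hdim.le
  haveI := DomDVR.isNoetherianRing_of_subalgebra (integralClosure A K)
  obtain ⟨c, hc0, hc⟩ := exists_inJac_ne_zero hdim hsl
  let c' : integralClosure A K := algebraMap A _ c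
  have hfin := Ideal.finite_minimalPrimes_of_isNoetherianRing (integralClosure A K) (Ideal.span {c'})
  refine Set.Finite.of_finite_image (f := fun V => if h : A ≤ V.toSubring then
    centre (integralClosure A K) V (integralClosure_mem h) else ⊥) (hfin.subset ?_) ?_
  · rintro _ ⟨V, hV, rfl⟩
    simp only [dif_pos hV.1]
    haveI : (centre (integralClosure A K) V (integralClosure_mem hV.1)).IsPrime :=
      inferInstanceAs (Ideal.comap _ _).IsPrime
    haveI hPA : ((centre (integralClosure A K) V (integralClosure_mem hV.1)).comap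
        (algebraMap A _)).IsPrime := Ideal.comap_isPrime _ _
    have hAne : (centre (integralClosure A K) V (integralClosure_mem hV.1)).comap (algebraMap A _) ≠ ⊥ := by
      intro h
      obtain ⟨d, hd, hlt⟩ := exists_small hV
      have : d ∈ (⊥ : Ideal A) := h ▸ (mem_centre (h := integralClosure_mem hV.1) (algebraMap A _ d)).mpr hlt
      exact hd ((Submodule.mem_bot A).mp this)
    have hcmem : c' ∈ centre (integralClosure A K) V (integralClosure_mem hV.1) :=
      hc.2 _ (isMaximal_of_ne_bot hdim hAne)
    refine ⟨⟨inferInstance, (Ideal.span_singleton_le_iff_mem _).mpr hcmem⟩, fun P hP hle => ?_⟩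
    haveI := hP.1
    have hPne : P ≠ ⊥ := fun h0 => hc0 (Subtype.ext (congrArg (fun z : integralClosure A K => (z : K))
      ((Submodule.mem_bot _).mp (h0 ▸ hP.2 (Ideal.mem_span_singleton_self c')) )))
    exact ((DomDVR.isMaximal_of_ne_bot _ hPne).eq_of_le Ideal.IsPrime.ne_top' hle).ge
  · intro V hV W hW heq
    simp only [dif_pos hV.1, dif_pos hW.1] at heq
    exact eq_of_centre_eq hdim hV hW heq

lemma le_antisymm_of_Ov (hdim : ringKrullDim A = 1) {V W : ValuationSubring K} (hV : V ∈ Ov A)
    (hW : W ≠ ⊤) (hle : V ≤ W) : V = W := by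
  have hW' : W ∈ Ov A := ⟨hV.1.trans hle, hW⟩
  haveI : Ring.KrullDimLE 1 A := Ring.krullDimLE_iff.mpr hdim.le
  refine eq_of_centre_eq hdim hV hW' ?_
  haveI : (centre (integralClosure A K) W (integralClosure_mem hW'.1)).IsPrime :=
    inferInstanceAs (Ideal.comap _ _).IsPrime
  haveI : (centre (integralClosure A K) V (integralClosure_mem hV.1)).IsPrime :=
    inferInstanceAs (Ideal.comap _ _).IsPrime
  refine ((DomDVR.isMaximal_of_ne_bot _ (centre_ne_bot hW' _)).eq_of_le Ideal.IsPrime.ne_top'
    fun x hx => ?_).symm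
  rw [mem_centre] at hx ⊢
  exact ValuationSubring.nonunits_le_nonunits.mpr hle hx

/-- Valuation criterion for a high power to be in the Jacobson radical. -/
theorem exists_pow_inJac (hdim : ringKrullDim A = 1) (hsl : Finite (MaximalSpectrum A)) (x : K)
    (hx : ∀ V ∈ Ov A, V.valuation x < 1) : ∃ M : ℕ, ∀ m, M ≤ m → InJac A (x ^ m) := by
  classical
  have hint : IsIntegral A x := by
    by_contra hni
    have : x ∈ (integralClosure (Subring.closure (A : Set K)) K).toSubring := by
      rw [← iInf_valuationSubring_superset, Subring.mem_iInf]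
      rintro ⟨V, hV⟩
      by_cases htop : V = ⊤
      · subst htop; trivial
      · exact (V.valuation_le_one_iff x).mp (hx V ⟨hV, htop⟩).le
    rw [Subring.closure_eq] at this
    exact hni this
  let S := Algebra.adjoin A ({x} : Set K)
  have hSfg : S.toSubmodule.FG := hint.fg_adjoin_singleton
  haveI : Module.Finite A S := Module.Finite.of_fg hSfg
  haveI : IsNoetherianRing S := IsNoetherianRing.of_finite A S
  haveI : Algebra.IsIntegral A S := Algebra.IsIntegral.of_finite A S
  obtain ⟨t, ht⟩ := hSfg
  obtain ⟨⟨d, hd⟩, hdt⟩ := IsLocalization.exist_integer_multiples_of_finset (nonZeroDivisors A) t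
  obtain ⟨c₀, hc₀, hjac⟩ := exists_inJac_ne_zero hdim hsl
  let c : A := c₀ * d
  have hdS : ∀ s ∈ S, (d : K) * s ∈ A := by
    intro s hs
    have hs' : s ∈ Submodule.span A (t : Set K) := ht.symm ▸ hs
    clear hs
    induction hs' using Submodule.span_induction with
    | mem y hy => obtain ⟨a, ha⟩ := hdt y hy; exact (show (d : K) * y = (a : K) from ha.symm) ▸ a.2
    | zero => rw [mul_zero]; exact zero_mem _
    | add y z hy hz hy' hz' =>
      rw [mul_add]; exact add_mem hy' hz'
    | smul a y hy hy' =>
      rw [show (d : K) * (a • y) = (a : K) * ((d : K) * y) by rw [Subring.smul_def, smul_eq_mul]; ring]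
      exact mul_mem a.2 hy'
  have hcS : ∀ s ∈ S, InJac A ((c : K) * s) := fun s hs => by
    rw [show (c : K) * s = (c₀ : K) * ((d : K) * s) by simp [c, mul_assoc]]
    exact hjac.mul (hdS s hs)
  let xS : S := ⟨x, Algebra.self_mem_adjoin_singleton A x⟩
  let cS : S := algebraMap A S c
  have hc0 : (c : K) ≠ 0 := fun h0 => (mul_ne_zero hc₀ (nonZeroDivisors.ne_zero hd)) (Subtype.ext h0)
  have hmem : xS ∈ (Ideal.span {cS}).radical := by
    rw [Ideal.radical_eq_sInf, Ideal.mem_sInf]
    rintro P ⟨hcP, hP⟩
    by_contra hxP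
    haveI : (P.comap (algebraMap A S)).IsPrime := Ideal.comap_isPrime _ _
    have hcA : c ∈ P.comap (algebraMap A S) := hcP (Ideal.mem_span_singleton_self cS)
    haveI : (P.comap (algebraMap A S)).IsMaximal := isMaximal_of_ne_bot hdim fun h0 =>
      hc0 (congrArg Subtype.val ((Submodule.mem_bot A).mp (h0 ▸ hcA)))
    haveI : P.IsMaximal := Ideal.isMaximal_of_isIntegral_of_isMaximal_comap (R := A) P inferInstance
    obtain ⟨V, hSV, hPV⟩ := Ideal.image_subset_nonunits_valuationSubring (A := S.toSubring) P hP.ne_top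
    have hAV : A ≤ V.toSubring := fun a ha => hSV (S.algebraMap_mem ⟨a, ha⟩)
    have hcV : V.valuation (c : K) < 1 :=
      (ValuationSubring.mem_nonunits_iff _).mp (hPV ⟨cS, hcP (Ideal.mem_span_singleton_self cS), rfl⟩)
    have hV : V ∈ Ov A := ⟨hAV, fun htop => by
      have h2 : V.valuation (c : K)⁻¹ ≤ 1 := by
        rw [V.valuation_le_one_iff, htop]; exact ValuationSubring.mem_top _
      rw [map_inv₀] at h2
      exact absurd ((one_lt_inv₀ ((Valuation.pos_iff _).mpr hc0)).mpr hcV) (not_lt.mpr h2)⟩
    obtain ⟨s, p, hp, hsp⟩ := Ideal.IsMaximal.exists_inv inferInstance hxP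
    have h1 : (s : K) * x + (p : K) = 1 := congrArg Subtype.val hsp
    have h2 : V.valuation ((s : K) * x + (p : K)) < 1 := by
      refine Valuation.map_add_lt _ ?_ ((ValuationSubring.mem_nonunits_iff _).mp (hPV ⟨p, hp, rfl⟩))
      rw [map_mul]
      exact (mul_le_of_le_one_left zero_le ((V.valuation_le_one_iff _).mpr (hSV s.2))).trans_lt (hx V hV)
    rw [h1, map_one] at h2
    exact lt_irrefl _ h2
  obtain ⟨N, hN⟩ := hmem
  obtain ⟨s, hs⟩ := Ideal.mem_span_singleton'.mp hN
  refine ⟨N, fun m hm => ?_⟩
  have h1 : (s : K) * (c : K) = x ^ N := congrArg Subtype.val hs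
  rw [← Nat.sub_add_cancel hm, pow_add, ← h1, show x ^ (m - N) * ((s : K) * (c : K)) =
    (c : K) * ((s : K) * x ^ (m - N)) by ring]
  exact hcS _ (mul_mem s.2 (pow_mem (Algebra.self_mem_adjoin_singleton A x) _))

end Groth.Agent.SemiLocGlue
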