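import Mathlib
import Groth.Agent.SemiLocGlue.Basic

/-! Gluing one dimensional semilocal subrings. -/

open CategoryTheory AlgebraicGeometry

namespace Groth.Agent.SemiLocGlue

universe u

variable {K : Type u} [Field K] {r : ℕ} (A : Fin r → Subring K) [∀ i, IsNoetherianRing (A i)]
  [∀ i, IsFractionRing (A i) K] (hdim : ∀ i, ringKrullDim (A i) = 1)
  (hsl : ∀ i, Finite (MaximalSpectrum (A i))) (hgen : ∀ i j, i ≠ j → A i ⊔ A j = ⊤)

lemma pow_sub_one_lt {V : ValuationSubring K} {y : K} (hy : V.valuation y < 1) {n : ℕ} (hn : n ≠ 0) :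
    V.valuation (y ^ n) < 1 := by
  rw [map_pow]; exact pow_lt_one₀ zero_le hy hn

include hdim hsl hgen in
theorem exists_separators : ∀ i : Fin r, ∃ f : K, f ∈ A i ∧ f⁻¹ ∈ A i ∧ f ≠ 0 ∧
    ∀ j, j ≠ i → InJac (A j) f := by
  classical
  intro i
  let P := (finite_Ov (hdim i) (hsl i)).toFinset
  let Q := (Finset.univ.erase i).biUnion fun j => (finite_Ov (hdim j) (hsl j)).toFinset
  have hne : ∀ {i j : Fin r}, i ≠ j → ∀ V, V ∈ Ov (A i) → V ∈ Ov (A j) → False := by
    intro i j hij V hVi hVj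
    exact hVi.2 (eq_top_iff.mpr fun x _ => sup_le hVi.1 hVj.1 ((hgen i j hij).ge trivial))
  have hdisj : Disjoint P Q := Finset.disjoint_left.mpr fun V hV hV' => by
    obtain ⟨j, hj, hVj⟩ := Finset.mem_biUnion.mp hV'
    exact hne (Finset.ne_of_mem_erase hj).symm V ((Set.Finite.mem_toFinset _).mp hV)
      ((Set.Finite.mem_toFinset _).mp hVj)
  have hinc : ∀ V ∈ P ∪ Q, ∀ W ∈ P ∪ Q, V ≠ W → ¬ V ≤ W := by
    have hmem : ∀ V ∈ P ∪ Q, ∃ j, V ∈ Ov (A j) := fun V hV => by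
      rcases Finset.mem_union.mp hV with h | h
      · exact ⟨i, (Set.Finite.mem_toFinset _).mp h⟩
      · obtain ⟨j, -, hVj⟩ := Finset.mem_biUnion.mp h
        exact ⟨j, (Set.Finite.mem_toFinset _).mp hVj⟩
    intro V hV W hW hVW hle
    obtain ⟨j, hVj⟩ := hmem V hV
    obtain ⟨k, hWk⟩ := hmem W hW
    exact hVW (le_antisymm_of_Ov (hdim j) hVj hWk.2 hle)
  obtain ⟨x, hx₁, hx₀⟩ := exists_one_zero P Q hdisj hinc
  have hz : ∀ V ∈ Ov (A i), V.valuation (1 - x) < 1 := fun V hV => by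
    rw [Valuation.map_sub_swap]
    exact hx₁ V ((Set.Finite.mem_toFinset _).mpr hV)
  obtain ⟨M, hM⟩ := exists_pow_inJac (hdim i) (hsl i) (1 - x) hz
  obtain ⟨hmem, hjac⟩ := hM (M + 1) (Nat.le_succ M)
  let y : K := 1 - (1 - x) ^ (M + 1)
  have hyA : y ∈ A i := sub_mem (one_mem _) hmem
  have hyu : IsUnit (⟨y, hyA⟩ : A i) := by
    by_contra h
    obtain ⟨m, hm, hle⟩ := Ideal.exists_le_maximal _
      (fun htop => h (Ideal.span_singleton_eq_top.mp htop))
    have h1 : (⟨y, hyA⟩ : A i) + ⟨_, hmem⟩ ∈ m :=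
      m.add_mem (hle (Ideal.mem_span_singleton_self _)) (hjac m hm)
    rw [show (⟨y, hyA⟩ : A i) + ⟨_, hmem⟩ = 1 from Subtype.ext (sub_add_cancel _ _)] at h1
    exact hm.ne_top ((Ideal.eq_top_iff_one _).mpr h1)
  have hy : ∀ j, j ≠ i → ∀ V ∈ Ov (A j), V.valuation y < 1 := by
    intro j hj V hV
    have h0 : V.valuation x < 1 := hx₀ V (Finset.mem_biUnion.mpr
      ⟨j, Finset.mem_erase.mpr ⟨hj, Finset.mem_univ j⟩, (Set.Finite.mem_toFinset _).mpr hV⟩)
    have h1 : V.valuation ((1 - x) - 1) < 1 := by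
      rw [show (1 - x) - 1 = -x by ring, Valuation.map_neg]; exact h0
    change V.valuation (1 - (1 - x) ^ (M + 1)) < 1
    rw [Valuation.map_sub_swap]
    exact sub_one_pow h1 (M + 1)
  choose N hN using fun j (hj : j ≠ i) => exists_pow_inJac (hdim j) (hsl j) y (hy j hj)
  let n := (Finset.univ : Finset (Fin r)).sup (fun j => if hj : j ≠ i then N j hj else 0) + 1
  have hyne : y ≠ 0 := fun h0 => not_isUnit_zero (M₀ := A i)
    ((show (⟨y, hyA⟩ : A i) = 0 from Subtype.ext h0) ▸ hyu)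
  refine ⟨y ^ n, pow_mem hyA n, ?_, pow_ne_zero n hyne, fun j hj => hN j hj n ?_⟩
  · rw [← inv_pow]
    refine pow_mem ?_ n
    obtain ⟨w, hw⟩ := hyu.exists_right_inv
    rw [← eq_inv_of_mul_eq_one_right (show y * (w : K) = 1 from congrArg Subtype.val hw)]
    exact w.2
  · refine le_trans ?_ (Nat.le_succ _)
    have := Finset.le_sup (f := fun j => if hj : j ≠ i then N j hj else 0) (Finset.mem_univ j)
    simpa only [dif_pos hj] using this

variable {A}

include hdim in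
lemma exists_pow_mul_mem {j : Fin r} {f : K} (hf : InJac (A j) f) (k : K) : ∃ n : ℕ, f ^ n * k ∈ A j := by
  obtain ⟨a, d, hd, hkd⟩ := exists_div (A := A j) k
  have hmem : (⟨f, hf.mem⟩ : A j) ∈ (Ideal.span {d}).radical := by
    rw [Ideal.radical_eq_sInf, Ideal.mem_sInf]
    rintro P ⟨hdP, hP⟩
    refine hf.2 P (@isMaximal_of_ne_bot _ _ _ _ _ (hdim j) P hP fun h0 => hd ?_)
    have hh : d ∈ (⊥ : Ideal (A j)) := h0 ▸ hdP (Ideal.mem_span_singleton_self d)
    exact congrArg Subtype.val ((Submodule.mem_bot (A j)).mp hh)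
  obtain ⟨n, hn⟩ := hmem
  obtain ⟨e, he⟩ := Ideal.mem_span_singleton'.mp hn
  refine ⟨n, ?_⟩
  rw [show f ^ n * k = (e : K) * (a : K) by
    rw [← hkd, show f ^ n = (e : K) * (d : K) from (congrArg Subtype.val he).symm]; ring]
  exact mul_mem e.2 a.2

/-- The data of separators. -/
structure Sep (A : Fin r → Subring K) where
  f : Fin r → K
  mem : ∀ i, f i ∈ A i
  inv_mem : ∀ i, (f i)⁻¹ ∈ A i
  ne_zero : ∀ i, f i ≠ 0
  jac : ∀ i j, j ≠ i → InJac (A j) (f i)

variable (A) in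
include hdim hsl hgen in
theorem nonempty_sep : Nonempty (Sep A) := by
  choose f h1 h2 h3 h4 using exists_separators A hdim hsl hgen
  exact ⟨⟨f, h1, h2, h3, h4⟩⟩

lemma Sep.mem_all (S : Sep A) (i j : Fin r) : S.f i ∈ A j := by
  by_cases h : j = i
  · exact h ▸ S.mem i
  · exact (S.jac i j h).mem

/-- The separator as an element of the intersection. -/
def Sep.g (S : Sep A) (i : Fin r) : ↥(⨅ j, A j) := ⟨S.f i, Subring.mem_iInf.mpr (S.mem_all i)⟩

include hdim in
theorem Sep.isLocalization (S : Sep A) (i : Fin r) :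
    letI := (Subring.inclusion (iInf_le A i)).toAlgebra
    IsLocalization.Away (S.g i) (A i) := by
  classical
  letI := (Subring.inclusion (iInf_le A i)).toAlgebra
  refine { map_units := ?_, surj := ?_, exists_of_eq := ?_ }
  · rintro ⟨_, n, rfl⟩
    rw [map_pow]
    exact (isUnit_iff_exists_inv.mpr ⟨⟨_, S.inv_mem i⟩, Subtype.ext (mul_inv_cancel₀ (S.ne_zero i))⟩ :
      IsUnit (⟨S.f i, S.mem i⟩ : A i)).pow n
  · intro z
    have h : ∀ j, ∃ n : ℕ, ∀ m, n ≤ m → S.f i ^ m * (z : K) ∈ A j := by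
      intro j
      by_cases hj : j = i
      · subst hj; exact ⟨0, fun m _ => mul_mem (pow_mem (S.mem j) m) z.2⟩
      · obtain ⟨n, hn⟩ := exists_pow_mul_mem hdim (S.jac i j hj) (z : K)
        refine ⟨n, fun m hm => ?_⟩
        rw [← Nat.sub_add_cancel hm, pow_add, mul_assoc]
        exact mul_mem (pow_mem (S.mem_all i j) _) hn
    choose n hn using h
    let N := (Finset.univ : Finset (Fin r)).sup n
    refine ⟨⟨⟨S.f i ^ N * z, Subring.mem_iInf.mpr fun j => hn j N (Finset.le_sup (Finset.mem_univ j))⟩,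
      ⟨S.g i ^ N, N, rfl⟩⟩, ?_⟩
    exact Subtype.ext (mul_comm (z : K) (S.f i ^ N))
  · intro x y hxy
    exact ⟨1, by rw [show x = y from Subtype.ext (congrArg (fun w : A i => (w : K)) hxy)]⟩

/-- The separators generate the unit ideal. -/
theorem Sep.isUnit_sum (S : Sep A) (hr : 1 ≤ r) : IsUnit (∑ i, S.g i) := by
  classical
  have h : ∀ j, IsUnit (Subring.inclusion (iInf_le A j) (∑ i, S.g i)) := by
    intro j
    rw [map_sum, ← Finset.add_sum_erase _ _ (Finset.mem_univ j)]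
    by_contra hu
    obtain ⟨m, hm, hle⟩ := Ideal.exists_le_maximal _ (fun htop => hu (Ideal.span_singleton_eq_top.mp htop))
    have h1 : ∑ i ∈ Finset.univ.erase j, Subring.inclusion (iInf_le A j) (S.g i) ∈ m :=
      m.sum_mem fun i hi => (S.jac i j (Finset.ne_of_mem_erase hi).symm).2 m hm
    have h2 := m.sub_mem (hle (Ideal.mem_span_singleton_self _)) h1
    rw [add_sub_cancel_right] at h2
    exact hm.ne_top (Ideal.eq_top_of_isUnit_mem m h2
      (isUnit_iff_exists_inv.mpr ⟨⟨_, S.inv_mem j⟩, Subtype.ext (mul_inv_cancel₀ (S.ne_zero j))⟩))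
  choose w hw using fun j => (h j).exists_right_inv
  have hw' : ∀ j, ((∑ i, S.g i : ↥(⨅ j, A j)) : K) * (w j : K) = 1 := fun j => congrArg Subtype.val (hw j)
  refine isUnit_iff_exists_inv.mpr ⟨⟨((∑ i, S.g i : ↥(⨅ j, A j)) : K)⁻¹, Subring.mem_iInf.mpr fun j => ?_⟩, ?_⟩
  · rw [← eq_inv_of_mul_eq_one_right (hw' j)]; exact (w j).2
  · exact Subtype.ext (mul_inv_cancel₀ (left_ne_zero_of_mul_eq_one (hw' ⟨0, hr⟩)))

lemma Sep.span_eq_top (S : Sep A) (hr : 1 ≤ r) : Ideal.span (Set.range S.g) = ⊤ :=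
  Ideal.eq_top_of_isUnit_mem _ (Ideal.sum_mem _ fun i _ => Ideal.subset_span ⟨i, rfl⟩) (S.isUnit_sum hr)

include hdim in
theorem Sep.range_comap (S : Sep A) (i : Fin r) :
    Set.range (Spec.map (CommRingCat.ofHom (Subring.inclusion (iInf_le A i)))).base =
      (PrimeSpectrum.basicOpen (S.g i) : Set (PrimeSpectrum ↥(⨅ j, A j))) := by
  letI := (Subring.inclusion (iInf_le A i)).toAlgebra
  haveI := S.isLocalization hdim i
  exact PrimeSpectrum.localization_away_comap_range (A i) (S.g i)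

include hdim in
theorem Sep.isOpenImmersion (S : Sep A) (i : Fin r) :
    IsOpenImmersion (Spec.map (CommRingCat.ofHom (Subring.inclusion (iInf_le A i)))) := by
  letI := (Subring.inclusion (iInf_le A i)).toAlgebra
  haveI := S.isLocalization hdim i
  exact IsOpenImmersion.of_isLocalization (S.g i)

include hdim in
theorem Sep.iUnion_range (S : Sep A) (hr : 1 ≤ r) :
    (⋃ i, Set.range (Spec.map (CommRingCat.ofHom (Subring.inclusion (iInf_le A i)))).base) = Set.univ := by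
  refine Set.eq_univ_of_forall fun p => ?_
  by_contra hp
  have hall : ∀ i, S.g i ∈ p.asIdeal := fun i => by
    by_contra hi
    exact hp (Set.mem_iUnion.mpr ⟨i, (S.range_comap hdim i).symm ▸ hi⟩)
  exact p.isPrime.ne_top (top_le_iff.mp (S.span_eq_top hr ▸ Ideal.span_le.mpr (by rintro _ ⟨i, rfl⟩; exact hall i)))

include hdim in
theorem Sep.isFractionRing (S : Sep A) (hr : 1 ≤ r) : IsFractionRing ↥(⨅ j, A j) K := by
  classical
  refine IsFractionRing.of_field _ _ fun z => ?_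
  let i : Fin r := ⟨0, hr⟩
  obtain ⟨a, d, hd, hzd⟩ := exists_div (A := A i) z
  letI := (Subring.inclusion (iInf_le A i)).toAlgebra
  haveI := S.isLocalization hdim i
  obtain ⟨⟨a', s⟩, ha'⟩ := IsLocalization.surj (Submonoid.powers (S.g i)) a
  obtain ⟨⟨d', t⟩, hd'⟩ := IsLocalization.surj (Submonoid.powers (S.g i)) d
  have hs : ((s : ↥(⨅ j, A j)) : K) ≠ 0 := by
    obtain ⟨_, n, rfl⟩ := s
    exact pow_ne_zero n (S.ne_zero i)
  have ht : ((t : ↥(⨅ j, A j)) : K) ≠ 0 := by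
    obtain ⟨_, n, rfl⟩ := t
    exact pow_ne_zero n (S.ne_zero i)
  have h1 : (a : K) * ((s : ↥(⨅ j, A j)) : K) = (a' : K) := congrArg Subtype.val ha'
  have h2 : (d : K) * ((t : ↥(⨅ j, A j)) : K) = (d' : K) := congrArg Subtype.val hd'
  refine ⟨a' * (t : ↥(⨅ j, A j)), d' * (s : ↥(⨅ j, A j)), ?_⟩
  change z = ((a' : K) * ((t : ↥(⨅ j, A j)) : K)) / ((d' : K) * ((s : ↥(⨅ j, A j)) : K))
  rw [← h1, ← h2, ← hzd]
  field_simp

end Groth.Agent.SemiLocGlue
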