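import Mathlib
import Groth.Agent.SemiLocGlue.Glue

/-! Properties of the intersection. -/

open CategoryTheory AlgebraicGeometry

namespace Groth.Agent.SemiLocGlue

universe u

variable {K : Type u} [Field K] {r : ℕ} {A : Fin r → Subring K} [∀ i, IsNoetherianRing (A i)]
  [∀ i, IsFractionRing (A i) K] (hdim : ∀ i, ringKrullDim (A i) = 1)
  (hsl : ∀ i, Finite (MaximalSpectrum (A i)))

include hdim in
theorem Sep.isNoetherianRing (S : Sep A) (hr : 1 ≤ r) : IsNoetherianRing ↥(⨅ j, A j) := by
  classical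
  refine AlgebraicGeometry.isNoetherianRing_of_away (S := Finset.univ.image S.g)
    (by rw [Finset.coe_image, Finset.coe_univ, Set.image_univ]; exact S.span_eq_top hr) ?_
  rintro ⟨x, hx⟩
  obtain ⟨i, -, rfl⟩ := Finset.mem_image.mp hx
  letI := (Subring.inclusion (iInf_le A i)).toAlgebra
  haveI := S.isLocalization hdim i
  exact isNoetherianRing_of_ringEquiv (A i)
    (IsLocalization.algEquiv (Submonoid.powers (S.g i)) (A i) (Localization.Away (S.g i))).toRingEquiv

include hdim in
theorem Sep.ringKrullDim_eq_one (S : Sep A) (hr : 1 ≤ r) : ringKrullDim ↥(⨅ j, A j) = 1 := by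
  apply le_antisymm
  · refine iSup_le fun l => ?_
    by_contra hcon
    obtain ⟨p, hp⟩ : ∃ p, p = l.last := ⟨_, rfl⟩
    obtain ⟨i, hi⟩ := Set.mem_iUnion.mp ((S.iUnion_range hdim hr).symm ▸ Set.mem_univ l.last)
    rw [S.range_comap hdim i] at hi
    letI := (Subring.inclusion (iInf_le A i)).toAlgebra
    haveI := S.isLocalization hdim i
    have hall : ∀ k, ∃ q : PrimeSpectrum (A i), PrimeSpectrum.comap (algebraMap _ (A i)) q = l k := by
      intro k
      have : l k ∈ (PrimeSpectrum.basicOpen (S.g i) : Set (PrimeSpectrum ↥(⨅ j, A j))) :=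
        fun h => hi ((l.monotone (Fin.le_last k) : l k ≤ l.last) h)
      rw [← PrimeSpectrum.localization_away_comap_range (A i) (S.g i)] at this
      exact this
    choose q hq using hall
    let l' : LTSeries (PrimeSpectrum (A i)) :=
      { length := l.length
        toFun := q
        step := fun k => by
          have hlt : l k.castSucc < l k.succ := l.step k
          rw [← hq k.castSucc, ← hq k.succ] at hlt
          exact (IsLocalization.orderEmbedding (Submonoid.powers (S.g i)) (A i)).lt_iff_lt.mp hlt }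
    have h' := Order.LTSeries.length_le_krullDim l'
    rw [show Order.krullDim (PrimeSpectrum (A i)) = 1 from hdim i] at h'
    exact hcon h'
  · let i : Fin r := ⟨0, hr⟩
    letI := (Subring.inclusion (iInf_le A i)).toAlgebra
    haveI := S.isLocalization hdim i
    rw [← hdim i]
    exact Order.krullDim_le_of_strictMono (PrimeSpectrum.comap (algebraMap _ (A i)))
      (Monotone.strictMono_of_injective (fun p q hpq => Ideal.comap_mono hpq)
        (PrimeSpectrum.localization_comap_injective (A i) (Submonoid.powers (S.g i))))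

include hdim in
theorem Sep.existsUnique (S : Sep A) (hr : 1 ≤ r) (m : PrimeSpectrum ↥(⨅ j, A j)) (hm : m.asIdeal.IsMaximal) :
    ∃! i, m ∈ Set.range (Spec.map (CommRingCat.ofHom (Subring.inclusion (iInf_le A i)))).base := by
  obtain ⟨i, hi⟩ := Set.mem_iUnion.mp ((S.iUnion_range hdim hr).symm ▸ Set.mem_univ m)
  refine ⟨i, hi, fun j hj => ?_⟩
  by_contra hji
  rw [S.range_comap hdim] at hi hj
  letI := (Subring.inclusion (iInf_le A i)).toAlgebra
  haveI := S.isLocalization hdim i
  obtain ⟨P, hP⟩ : m ∈ Set.range (PrimeSpectrum.comap (algebraMap ↥(⨅ j, A j) (A i))) := by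
    rw [PrimeSpectrum.localization_away_comap_range (A i) (S.g i)]; exact hi
  have hgP : Subring.inclusion (iInf_le A i) (S.g j) ∉ P.asIdeal := fun h =>
    hj (hP ▸ h : S.g j ∈ m.asIdeal)
  have hPbot : P.asIdeal = ⊥ := by
    by_contra hne
    exact hgP ((S.jac j i (Ne.symm hji)).2 P.asIdeal (isMaximal_of_ne_bot (hdim i) hne))
  have hmbot : m.asIdeal = ⊥ := by
    rw [← hP]
    change P.asIdeal.comap _ = ⊥
    rw [hPbot, ← RingHom.ker_eq_comap_bot, RingHom.ker_eq_bot_iff_eq_zero]
    exact fun x hx => Subtype.ext (congrArg (fun w : A i => (w : K)) hx)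
  have hfield : IsField ↥(⨅ j, A j) := Ring.isField_iff_maximal_bot.mpr (hmbot ▸ hm)
  have h1 := S.ringKrullDim_eq_one hdim hr
  rw [ringKrullDim_eq_zero_of_isField hfield] at h1
  exact zero_ne_one h1

include hdim hsl in
theorem Sep.finite_maximalSpectrum (S : Sep A) (hr : 1 ≤ r) : Finite (MaximalSpectrum ↥(⨅ j, A j)) := by
  have key : ∀ m : MaximalSpectrum ↥(⨅ j, A j), ∃ p : Σ i, MaximalSpectrum (A i),
      p.2.asIdeal.comap (Subring.inclusion (iInf_le A p.1)) = m.asIdeal := by
    intro m
    obtain ⟨i, hi⟩ := Set.mem_iUnion.mp ((S.iUnion_range hdim hr).symm ▸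
      Set.mem_univ (⟨m.asIdeal, m.isMaximal.isPrime⟩ : PrimeSpectrum ↥(⨅ j, A j)))
    rw [S.range_comap hdim] at hi
    letI := (Subring.inclusion (iInf_le A i)).toAlgebra
    haveI := S.isLocalization hdim i
    obtain ⟨P, hP⟩ : (⟨m.asIdeal, m.isMaximal.isPrime⟩ : PrimeSpectrum _) ∈
        Set.range (PrimeSpectrum.comap (algebraMap ↥(⨅ j, A j) (A i))) := by
      rw [PrimeSpectrum.localization_away_comap_range (A i) (S.g i)]; exact hi
    obtain ⟨M, hM, hle⟩ := Ideal.exists_le_maximal _ P.isPrime.ne_top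
    refine ⟨⟨i, ⟨M, hM⟩⟩, (m.isMaximal.eq_of_le (Ideal.IsPrime.ne_top (Ideal.comap_isPrime _ M)) ?_).symm⟩
    rw [show m.asIdeal = P.asIdeal.comap (algebraMap _ (A i)) from (congrArg PrimeSpectrum.asIdeal hP).symm]
    exact Ideal.comap_mono hle
  choose p hp using key
  haveI := hsl
  exact Finite.of_injective p fun m m' h => MaximalSpectrum.ext (by rw [← hp m, h, hp m'])

end Groth.Agent.SemiLocGlue
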