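import Mathlib
import Groth.Agent.SemiLocGlue.Main

/-! The case of two subrings. -/

open CategoryTheory AlgebraicGeometry

namespace Groth.Agent.SemiLocGlue

universe u

variable {K : Type u} [Field K]

theorem glue_of_eq {r : ℕ} (hr : 1 ≤ r) {A : Fin r → Subring K} [∀ i, IsNoetherianRing (A i)]
    [∀ i, IsFractionRing (A i) K] (hdim : ∀ i, ringKrullDim (A i) = 1) (S : Sep A) {R : Subring K}
    (hR : R = ⨅ j, A j) (h : ∀ i, R ≤ A i) :
    (∀ i, IsOpenImmersion (Spec.map (CommRingCat.ofHom (Subring.inclusion (h i))))) ∧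
      (⋃ i, Set.range (Spec.map (CommRingCat.ofHom (Subring.inclusion (h i)))).base) = Set.univ ∧
      ∀ i, ∃ g : R, (g : K) = S.f i ∧
        letI := (Subring.inclusion (h i)).toAlgebra
        IsLocalization.Away g (A i) := by
  subst hR
  exact ⟨fun i => S.isOpenImmersion hdim i, S.iUnion_range hdim hr,
    fun i => ⟨S.g i, rfl, S.isLocalization hdim i⟩⟩

theorem glue_two (A B : Subring K) [IsFractionRing A K] [IsFractionRing B K] [IsNoetherianRing A]
    [IsNoetherianRing B] (hdimA : ringKrullDim A = 1) (hdimB : ringKrullDim B = 1)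
    (hslA : Finite (MaximalSpectrum A)) (hslB : Finite (MaximalSpectrum B)) (hgen : A ⊔ B = ⊤) :
    IsOpenImmersion (Spec.map (CommRingCat.ofHom (Subring.inclusion (inf_le_left : A ⊓ B ≤ A)))) ∧
      IsOpenImmersion (Spec.map (CommRingCat.ofHom (Subring.inclusion (inf_le_right : A ⊓ B ≤ B)))) ∧
      Set.range (Spec.map (CommRingCat.ofHom (Subring.inclusion (inf_le_left : A ⊓ B ≤ A)))).base ∪
        Set.range (Spec.map (CommRingCat.ofHom (Subring.inclusion (inf_le_right : A ⊓ B ≤ B)))).base = Set.univ ∧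
      IsPushout (CommRingCat.ofHom (Subring.inclusion (inf_le_left : A ⊓ B ≤ A)))
        (CommRingCat.ofHom (Subring.inclusion (inf_le_right : A ⊓ B ≤ B)))
        (CommRingCat.ofHom A.subtype) (CommRingCat.ofHom B.subtype) := by
  let F : Fin 2 → Subring K := ![A, B]
  haveI : ∀ i, IsNoetherianRing (F i) :=
    Fin.forall_fin_two.mpr ⟨inferInstanceAs (IsNoetherianRing A), inferInstanceAs (IsNoetherianRing B)⟩
  haveI : ∀ i, IsFractionRing (F i) K :=
    Fin.forall_fin_two.mpr ⟨inferInstanceAs (IsFractionRing A K), inferInstanceAs (IsFractionRing B K)⟩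
  have hdim : ∀ i, ringKrullDim (F i) = 1 := Fin.forall_fin_two.mpr ⟨hdimA, hdimB⟩
  have hsl : ∀ i, Finite (MaximalSpectrum (F i)) := Fin.forall_fin_two.mpr ⟨hslA, hslB⟩
  have hgen' : ∀ i j, i ≠ j → F i ⊔ F j = ⊤ := by
    intro i j hij
    fin_cases i <;> fin_cases j <;> first | exact absurd rfl hij | exact hgen | (rw [sup_comm]; exact hgen)
  obtain ⟨S⟩ := nonempty_sep F hdim hsl hgen'
  have hR : A ⊓ B = ⨅ j, F j := le_antisymm
    (le_iInf (Fin.forall_fin_two.mpr ⟨inf_le_left, inf_le_right⟩)) (le_inf (iInf_le F 0) (iInf_le F 1))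
  have hle : ∀ i, A ⊓ B ≤ F i := Fin.forall_fin_two.mpr ⟨inf_le_left, inf_le_right⟩
  obtain ⟨hopen, hcov, hloc⟩ := glue_of_eq one_le_two hdim S hR hle
  refine ⟨hopen 0, hopen 1, ?_, ?_⟩
  · rw [Set.eq_univ_iff_forall]
    intro p
    obtain ⟨i, hi⟩ := Set.mem_iUnion.mp (hcov.symm ▸ Set.mem_univ p)
    fin_cases i
    · exact Or.inl hi
    · exact Or.inr hi
  · obtain ⟨g, hg, hgloc⟩ := hloc 0
    letI : Algebra ↥(A ⊓ B) A := (Subring.inclusion (inf_le_left : A ⊓ B ≤ A)).toAlgebra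
    haveI : IsLocalization.Away g A := hgloc
    let f : ↥(A ⊓ B) →+* B := Subring.inclusion inf_le_right
    have hjac : InJac B (g : K) := hg ▸ S.jac 0 1 (by decide)
    have hgK : (g : K) ≠ 0 := hg ▸ S.ne_zero 0
    haveI : IsLocalization ((Submonoid.powers g).map f) K := by
      refine { map_units := ?_, surj := ?_, exists_of_eq := ?_ }
      · rintro ⟨_, _, ⟨n, rfl⟩, rfl⟩
        exact isUnit_iff_ne_zero.mpr (by
          change ((f (g ^ n) : B) : K) ≠ 0
          exact pow_ne_zero n hgK)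
      · intro z
        obtain ⟨n, hn⟩ := exists_pow_mul_mem (A := fun _ : Fin 1 => B) (fun _ => hdimB) (j := 0) hjac z
        exact ⟨⟨⟨(g : K) ^ n * z, hn⟩, ⟨f (g ^ n), g ^ n, ⟨n, rfl⟩, rfl⟩⟩, mul_comm z ((g : K) ^ n)⟩
      · intro x y hxy
        exact ⟨1, by rw [show x = y from Subtype.ext hxy]⟩
    exact (CommRingCat.isPushout_of_isLocalization f A.subtype rfl (Submonoid.powers g)).flip

end Groth.Agent.SemiLocGlue
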